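import Mathlib
import Cfsg.Agent.Lib.Helper10.BR0

/-!
# S0999 piece BR-G1: a Sylow `p`-subgroup of a simple group of order `< p ^ 3` has order `p`
-/

set_option autoImplicit false

namespace Cfsg.Agent.Lib.Helper10.BR

/-- BR-G1 -/
theorem sylow_card {G : Type*} [Group G] [Finite G] [IsSimpleGroup G] (hG : ¬ IsCyclic G)
    (p : ℕ) [Fact p.Prime] (hdvd : p ∣ Nat.card G) (hbig : Nat.card G < p ^ 3) (P : Sylow p G) :
    Nat.card P = p := by
  have hp : p.Prime := Fact.out
  have hcard := P.card_eq_multiplicity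
  have hG0 : Nat.card G ≠ 0 := Nat.card_pos.ne'
  obtain ⟨k, hk⟩ : ∃ k, k = (Nat.card G).factorization p := ⟨_, rfl⟩
  rw [← hk] at hcard
  have hk1 : 1 ≤ k := by
    rw [hk]
    exact hp.factorization_pos_of_dvd hG0 hdvd
  have hk3 : k < 3 := by
    have h1 : p ^ k ∣ Nat.card G := by
      rw [hk]; exact Nat.ordProj_dvd _ _
    have h2 : p ^ k < p ^ 3 := lt_of_le_of_lt (Nat.le_of_dvd (Nat.pos_of_ne_zero hG0) h1) hbig
    exact (Nat.pow_lt_pow_iff_right hp.one_lt).1 h2
  have hk2 : k = 1 ∨ k = 2 := by omega
  rcases hk2 with hk2 | hk2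
  · rw [hcard, hk2, pow_one]
  · exfalso
    rw [hk2] at hcard
    have hidx : (P : Subgroup G).index * p ^ 2 = Nat.card G := by
      rw [← hcard]; exact Subgroup.index_mul_card _
    have hjp : (P : Subgroup G).index < p := by
      have hp2 : 0 < p ^ 2 := pow_pos hp.pos 2
      have h3 : (P : Subgroup G).index * p ^ 2 < p * p ^ 2 := by
        rw [hidx]
        calc Nat.card G < p ^ 3 := hbig
          _ = p * p ^ 2 := by ring
      exact lt_of_mul_lt_mul_right h3 (Nat.zero_le _)
    have hKn : ((P : Subgroup G).normalCore).Normal := Subgroup.normalCore_normal _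
    rcases IsSimpleGroup.eq_bot_or_eq_top_of_normal _ hKn with hK | hK
    · -- the action on the cosets is faithful
      have hinj : Function.Injective (MulAction.toPermHom G (G ⧸ (P : Subgroup G))) := by
        rw [← MonoidHom.ker_eq_bot_iff, ← Subgroup.normalCore_eq_ker]
        exact hK
      have hd : Nat.card G ∣ Nat.card (Equiv.Perm (G ⧸ (P : Subgroup G))) :=
        Subgroup.card_dvd_of_injective _ hinj
      rw [Nat.card_perm] at hd
      have hpd : p ∣ (Nat.card (G ⧸ (P : Subgroup G))).factorial := dvd_trans hdvd hd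
      have hle := (Nat.Prime.dvd_factorial hp).1 hpd
      have hj : Nat.card (G ⧸ (P : Subgroup G)) = (P : Subgroup G).index := rfl
      omega
    · have hPtop : (P : Subgroup G) = ⊤ := top_le_iff.1 (hK ▸ Subgroup.normalCore_le _)
      have hGc : Nat.card G = p ^ 2 := by
        rw [← hcard, hPtop, Subgroup.card_top]
      have hcomm := IsPGroup.commutative_of_card_eq_prime_sq hGc
      obtain ⟨H, hH⟩ := Sylow.exists_subgroup_card_pow_prime p (n := 1)
        (by rw [pow_one]; exact hdvd)
      have hHn : H.Normal := ⟨fun n hn g => by rw [hcomm g n, mul_inv_cancel_right]; exact hn⟩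
      rcases IsSimpleGroup.eq_bot_or_eq_top_of_normal H hHn with h | h
      · rw [h, Subgroup.card_bot, pow_one] at hH
        exact hp.one_lt.ne hH
      · rw [h, Subgroup.card_top, hGc, pow_one] at hH
        have h4 : p ^ 2 = p * p := by ring
        rw [h4] at hH
        have h5 := hp.one_lt
        nlinarith

end Cfsg.Agent.Lib.Helper10.BR
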