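import Mathlib
import Cfsg.Agent.Lib.Helper10.BR0
import Cfsg.Agent.Lib.Helper82.CharCore
import Cfsg.Agent.S0165

/-!
# S0999 piece BR-X8: an irreducible character of degree divisible by `p` vanishes on the
`p`-singular elements when the Sylow `p`-subgroup has order `p` (wrapper of S0165)
-/

set_option autoImplicit false

namespace Cfsg.Agent.Lib.Helper10.BR

open Cfsg

/-- BR-X8 -/
theorem vanish_of_dvd {G : Type*} [Group G] [Fintype G] (p : ℕ) [Fact p.Prime] (P : Sylow p G)
    (hP : Nat.card P = p) (ψ : IrrCharacter G) (hψ : p ∣ charDegree (ψ : G → ℂ)) (x : G)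
    (hx : p ∣ orderOf x) : (ψ : G → ℂ) x = 0 := by
  have hp : p.Prime := Fact.out
  obtain ⟨n, ρ, hρ, hχ, hn, h1⟩ := Cfsg.Agent.Lib.Helper82.irr_exists_rep ψ
  haveI := hρ
  have hdeg : charDegree (ψ : G → ℂ) = n := by
    unfold charDegree
    rw [h1]
    simp
  have hfr : Module.finrank ℂ (Fin n → ℂ) = n := by simp
  have hcard := P.card_eq_multiplicity
  rw [hP] at hcard
  have hf : (Nat.card G).factorization p = 1 := by
    have h3 : p ^ 1 = p ^ (Nat.card G).factorization p := by rw [pow_one]; exact hcard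
    exact (Nat.pow_right_injective hp.two_le h3).symm
  have h1' : p ^ 1 ∣ Nat.card G := by
    rw [pow_one]
    exact Nat.dvd_of_factorization_pos (by rw [hf]; exact one_ne_zero)
  have h2' : ¬ p ^ (1 + 1) ∣ Nat.card G := by
    intro h
    have h4 := (hp.pow_dvd_iff_le_factorization Nat.card_pos.ne').1 h
    rw [hf] at h4
    omega
  have h5 := Cfsg.Agent.S0165.result ρ p 1 hp h1' h2'
    (by rw [pow_one, hfr, ← hdeg]; exact hψ) x hx
  rw [hχ] at h5
  exact h5

end Cfsg.Agent.Lib.Helper10.BR
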