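import Mathlib
import Cfsg.Agent.Lib.Helper85.HPLAN1a
import Cfsg.Agent.Lib.Helper16.HPDEC
import Cfsg.Agent.Lib.Helper31.HPETA
import Cfsg.Agent.Lib.Helper57.HPEXACT
import Cfsg.Agent.Lib.Helper87.HPNOLIN
import Cfsg.Agent.Lib.Helper83.HPKFZ
import Cfsg.Agent.Lib.Helper22.HPTYPES

/-!
# S4504 (helper22's HP project): piece HP-STAR-LAN1 (`hp_lan1`)

Every non-trivial constituent of `Pi1 = χ χ̄` is trivial on the centre and is either of value `1`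
on the non-trivial powers of `z` with degree `p + 1`, or exceptional (values `-η`) of degree
`e + 1`.  Assembly of `lan1_of` (HPLAN1a) with the landed shared pieces.
-/

set_option autoImplicit false
set_option linter.style.haveILetI false
set_option linter.unusedVariables false

namespace Cfsg.Agent.Lib.Helper85.HPT

open Cfsg Cfsg.Agent.Lib.Helper22.BFD Cfsg.Agent.Lib.Helper22.HPD
open scoped ComplexConjugate

universe u

/-- PIECE LAN1: the constituents of `Pi1` -/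
theorem hp_lan1 {G : Type u} [Group G] [Fintype G] (p : ℕ) [Fact p.Prime]
    (hirr : ∀ (H : Type u) [Group H] [Finite H], p ∣ Nat.card H → ¬ p ^ 2 ∣ Nat.card H →
      (∀ L : Subgroup H, L.Normal → Nat.card L ≠ p) → ∀ ψ : H → ℂ, IsCharacter H ψ →
      (∀ g : H, ψ g = ψ 1 → g = 1) → 2 * charDegree ψ + 1 = p → IsIrrCharacter H ψ)
    (hdiv : p ∣ Nat.card G) (hsq : ¬ p ^ 2 ∣ Nat.card G)
    (hnn : ∀ H : Subgroup G, H.Normal → Nat.card H ≠ p)
    (χ : IrrCharacter G) (hfaith : ∀ g : G, χ.1 g = χ.1 1 → g = 1)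
    (e : ℕ) (he : charDegree χ.1 = e) (hdeg : 2 * e + 1 = p) (z : G) (ζ : ℂ)
    (hHP : HP p ζ z χ.1) (k : ℕ) (hk : GalExp p G k) (φ : IrrCharacter G)
    (hφ1 : φ.1 ≠ fun _ => 1) (hm : classInner (Pi1 χ.1) φ.1 ≠ 0) :
    TrivZ φ.1 ∧ ((IsEp p z φ.1 ∧ charDegree φ.1 = p + 1) ∨
      (IsXp p ζ z k φ.1 ∧ charDegree φ.1 = e + 1)) := by
  haveI : Finite (IrrCharacter G) := Cfsg.Agent.Lib.Helper83.irr_finite
  letI : Fintype (IrrCharacter G) := Fintype.ofFinite _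
  have hp : p.Prime := Fact.out
  have hp2 : p ≠ 2 := by omega
  have hpe : (p - 1) / 2 = e := by omega
  obtain ⟨hSq, hη0, hηsum, -, hηsq, hηns⟩ :=
    Cfsg.Agent.Lib.Helper31.HPT.eta_facts p hp2 ζ hHP.hζ
  rw [hpe] at hSq hη0 hηsq
  have hk0 : (k : ZMod p) ≠ 0 := by
    intro h0
    have h1 : p ∣ k := (ZMod.natCast_eq_zero_iff k p).mp h0
    have h2 : Nat.gcd k (Nat.card G) = 1 := hk.cop
    have h3 : p ∣ Nat.gcd k (Nat.card G) := Nat.dvd_gcd h1 hdiv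
    rw [h2] at h3
    exact hp.one_lt.ne' (Nat.dvd_one.mp h3)
  have hηk : ∀ t : ZMod p, t ≠ 0 → eta p ζ t + eta p ζ ((k : ZMod p) * t) = -1 :=
    fun t ht => ((hηns (k : ZMod p) hk0 hk.nsq).2 t ht).1
  obtain ⟨m₁, m₂, hm₁, -, hPi, -, htriv, -, -, -⟩ :=
    Cfsg.Agent.Lib.Helper16.HPT.hp_dec p χ e he k hk
  exact lan1_of p χ e he hdeg z ζ hHP k (Cfsg.Agent.Lib.Helper83.HPT.hp_kfz p hnn χ.1 z ζ hHP)
    hSq hη0 hηsum hηsq hηk m₁ hm₁ hPi htriv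
    (fun ψ => Cfsg.Agent.Lib.Helper22.HPT.hp_types p hdiv hsq z hHP.hz ψ)
    (fun μ hμ hne => Cfsg.Agent.Lib.Helper87.HPT.hp_nolin p hirr hdiv hsq hnn χ hfaith
      (by rw [he]; exact hdeg) μ hμ hne)
    (fun ψ => Cfsg.Agent.Lib.Helper57.HPT.hp_exact p hdiv χ.1 z ζ hHP k hk ψ)
    φ hφ1 hm

end Cfsg.Agent.Lib.Helper85.HPT
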