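import Mathlib
import Cfsg.Agent.Lib.Helper37.Inv.Fr

/-!
# S2067 piece J3O-FR: the entrywise Frobenius on `GL₉(F₄)` and the packed-matrix code map `frC`
-/

set_option autoImplicit false

namespace Cfsg.Agent.Lib.Helper85.J3OFR

open Cfsg.Agent.Lib.Helper37.J3 Cfsg.Agent.Lib.Helper37.Inv

/-- squaring as a ring endomorphism in characteristic two -/
def sq {F : Type*} [Field F] (h2 : (2 : F) = 0) : F →+* F where
  toFun x := x * x
  map_one' := one_mul 1
  map_mul' x y := by ring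
  map_zero' := zero_mul 0
  map_add' x y := by linear_combination (x * y) * h2

theorem sq_apply {F : Type*} [Field F] (h2 : (2 : F) = 0) (x : F) : sq h2 x = x * x := rfl

theorem bit_sq {F : Type*} [Field F] (n k : ℕ) :
    ((bit n k : ℕ) : F) * ((bit n k : ℕ) : F) = ((bit n k : ℕ) : F) := by
  have h1 := bit_lt n k
  obtain ⟨b, hb⟩ : ∃ b, b = bit n k := ⟨_, rfl⟩
  rw [← hb] at h1 ⊢
  interval_cases b <;> simp

theorem dV_frV {F : Type*} [Field F] {ω : F} (h2 : (2 : F) = 0) (hω : ω * ω = ω + 1)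
    (v : ℕ × ℕ) (z : Cfsg.Spor.F9) : dV ω (frV v) z = dV ω v z * dV ω v z := by
  rw [dV_apply, dV_apply]
  have e1 : (frV v).1 = v.1 ^^^ v.2 := rfl
  have e2 : (frV v).2 = v.2 := rfl
  rw [e1, e2, bit_xor, cast_mod2 h2]
  have hb1 := bit_sq (F := F) v.1 (pos z)
  have hb2 := bit_sq (F := F) v.2 (pos z)
  push_cast
  linear_combination (-1 : F) * hb1 - ((bit v.1 (pos z) : F) * (bit v.2 (pos z) : F) * ω) * h2 -
    ((bit v.2 (pos z) : F) * (bit v.2 (pos z) : F)) * hω - (ω + 1) * hb2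

theorem row_frC (M : M9) (w : Cfsg.Spor.F9) : (frC M).row (pos w) = frV (M.row (pos w)) := by
  refine pos_cases (fun k => (frC M).row k = frV (M.row k)) ?_ ?_ ?_ ?_ ?_ ?_ ?_ ?_ ?_ w <;> rfl

theorem exists_frobenius {F : Type*} [Field F] {ω : F} (h2 : (2 : F) = 0) (hω : ω * ω = ω + 1) :
    ∃ Fr : GL Cfsg.Spor.F9 F →* GL Cfsg.Spor.F9 F, Function.Injective Fr ∧
      ∀ (g : GL Cfsg.Spor.F9 F) (M : Cfsg.Agent.Lib.Helper37.J3.M9),
        Cfsg.Agent.Lib.Helper37.J3.Rep ω g M →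
        Cfsg.Agent.Lib.Helper37.J3.Rep ω (Fr g) (Cfsg.Agent.Lib.Helper37.Inv.frC M) := by
  refine ⟨Units.map ((sq h2).mapMatrix (m := Cfsg.Spor.F9)).toMonoidHom, ?_, ?_⟩
  · apply Units.map_injective
    intro A B hAB
    exact Matrix.map_injective (sq h2).injective hAB
  · intro g M hg
    unfold Cfsg.Agent.Lib.Helper37.J3.Rep at hg ⊢
    rw [Units.coe_map]
    show ((g : Matrix Cfsg.Spor.F9 Cfsg.Spor.F9 F)).map (sq h2) = dM ω (frC M)
    rw [hg]
    funext w z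
    show dV ω (M.row (pos w)) z * dV ω (M.row (pos w)) z = dV ω ((frC M).row (pos w)) z
    rw [row_frC, dV_frV h2 hω]

end Cfsg.Agent.Lib.Helper85.J3OFR
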