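import Cfsg.Agent.Lib.Helper41.TW3

/-!
# S5752 project, piece QS (helper85 for helper41)

A normal subgroup `C` of an internally quasisimple group `J` containing all `q'`-elements of `J`
is `J`.
-/

set_option autoImplicit false

namespace Cfsg.Agent.Lib.Helper85.TWP

open Cfsg Cfsg.Agent.Lib.Helper66 Cfsg.Agent.Lib.Helper41.TW

variable {G : Type*} [Group G] [Finite G] {X Y A1 B1 A2 B2 : Subgroup G}

theorem qs_eq_of_pprime {J C : Subgroup G} (hqs : QS J) (hne : J ≠ ⊥) {q : ℕ} (hq : q.Prime)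
    (hCJ : C ≤ J) (hn : J ≤ Subgroup.normalizer (C : Set G))
    (hC : ∀ y ∈ J, (orderOf y).Coprime q → y ∈ C) : C = J := by
  by_contra hCne
  have hcen : C ≤ Subgroup.centralizer (J : Set G) := hqs.2 C hCJ hn hCne
  have : Fact q.Prime := ⟨hq⟩
  have hQS := isQuasisimple_of_qs hqs hne
  apply Cfsg.Agent.Lib.Helper30.qs_not_solvable hQS
  -- `J / Z(J)` is a `q`-group
  have hpg : IsPGroup q (↥J ⧸ Subgroup.center ↥J) := by
    intro y
    obtain ⟨g, rfl⟩ := QuotientGroup.mk_surjective y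
    obtain ⟨a, m, hm, ham⟩ :=
      Nat.exists_eq_pow_mul_and_not_dvd (orderOf_pos g).ne' q hq.ne_one
    refine ⟨a, ?_⟩
    have hdvd : orderOf (g ^ q ^ a) ∣ m := by
      apply orderOf_dvd_of_pow_eq_one
      rw [← pow_mul, ← ham, pow_orderOf_eq_one]
    have hcop : (orderOf (g ^ q ^ a)).Coprime q :=
      Nat.Coprime.coprime_dvd_left hdvd ((Nat.Prime.coprime_iff_not_dvd hq).mpr hm).symm
    have hmemC : ((g ^ q ^ a : ↥J) : G) ∈ C :=
      hC _ (g ^ q ^ a).2 (by rw [Subgroup.orderOf_coe]; exact hcop)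
    have hmem : g ^ q ^ a ∈ Subgroup.center ↥J := by
      rw [Subgroup.mem_center_iff]
      intro x
      apply Subtype.ext
      exact Subgroup.mem_centralizer_iff.mp (hcen hmemC) (x : G) x.2
    rw [← QuotientGroup.mk_pow]
    exact (QuotientGroup.eq_one_iff _).mpr hmem
  have : Group.IsNilpotent (↥J ⧸ Subgroup.center ↥J) := hpg.isNilpotent
  have : Group.IsSolvable (↥J ⧸ Subgroup.center ↥J) := inferInstance
  have : Group.IsSolvable (Subgroup.center ↥J) :=
    Group.isSolvable_of_comm (fun a b => Subtype.ext (Subgroup.mem_center_iff.mp b.2 (a : ↥J)))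
  refine Group.isSolvable_of_ker_le_range (Subgroup.center ↥J).subtype
    (QuotientGroup.mk' (Subgroup.center ↥J)) ?_
  rw [QuotientGroup.ker_mk', Subgroup.range_subtype]

end Cfsg.Agent.Lib.Helper85.TWP
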