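import Mathlib

/-!
# Project RC (helper48, S1157), piece RC-NC24

The normaliser of a Sylow 2-subgroup of `Z₂ × P` has order 24 when the Sylow 2-subgroups of `P`
are Klein four groups with normalisers of order 12.
-/

set_option autoImplicit false

namespace Cfsg.Agent.Lib.Helper48.RC

-- piece RC-NC24
theorem normalizer_in_prod {C P : Type*} [Group C] [Finite C] [Group P] [Finite P]
    (e : C ≃* Multiplicative (ZMod 2) × P)
    (hP : ∀ V : Sylow 2 P, IsKleinFour (V : Subgroup P))
    (hN : ∀ V : Subgroup P, IsKleinFour V → Nat.card (Subgroup.normalizer (V : Set P)) = 12)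
    (S : Sylow 2 C) : Nat.card (Subgroup.normalizer ((S : Subgroup C) : Set C)) = 24 := by
  classical
  let φ : C →* P := (MonoidHom.snd (Multiplicative (ZMod 2)) P).comp e.toMonoidHom
  have hV0 : IsPGroup 2 ((S : Subgroup C).map φ) := S.isPGroup'.map φ
  obtain ⟨V, hV⟩ := hV0.exists_le_sylow
  have hK : IsKleinFour (V : Subgroup P) := hP V
  have hsq : ∀ a : Multiplicative (ZMod 2), a ^ 2 = 1 := by decide
  have hVsq : ∀ v ∈ (V : Subgroup P), v ^ 2 = 1 := by
    intro v hv
    have h1 : (⟨v, hv⟩ : (V : Subgroup P)) ^ 2 = 1 := by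
      have h2 := Monoid.pow_exponent_eq_one (⟨v, hv⟩ : (V : Subgroup P))
      rw [hK.exponent_two] at h2
      exact h2
    exact congrArg Subtype.val h1
  obtain ⟨Q, hQ⟩ : ∃ Q : Subgroup (Multiplicative (ZMod 2) × P),
      Q = Subgroup.prod ⊤ (V : Subgroup P) := ⟨_, rfl⟩
  have hQp : IsPGroup 2 Q := by
    intro g
    refine ⟨1, ?_⟩
    have hg : (g : Multiplicative (ZMod 2) × P) ∈ Subgroup.prod ⊤ (V : Subgroup P) :=
      hQ.le g.2
    rw [Subgroup.mem_prod] at hg
    apply Subtype.ext
    apply Prod.ext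
    · simpa using hsq (g : Multiplicative (ZMod 2) × P).1
    · simpa using hVsq _ hg.2
  have hSQ : (S : Subgroup C) ≤ Q.comap e.toMonoidHom := by
    intro s hs
    rw [Subgroup.mem_comap, hQ, Subgroup.mem_prod]
    exact ⟨Subgroup.mem_top _, hV ⟨s, hs, rfl⟩⟩
  have hQS : Q.comap e.toMonoidHom = S :=
    S.is_maximal' (hQp.comap_of_injective e.toMonoidHom e.injective) hSQ
  have hmap : (S : Subgroup C).map e.toMonoidHom = Q := by
    rw [← hQS]
    exact Subgroup.map_comap_eq_self_of_surjective e.surjective Q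
  have hcard : Nat.card (Subgroup.normalizer ((S : Subgroup C) : Set C)) =
      Nat.card (Subgroup.normalizer (Q : Set (Multiplicative (ZMod 2) × P))) := by
    rw [← hmap, ← Subgroup.map_equiv_normalizer_eq]
    exact (Subgroup.card_map_of_injective e.injective).symm
  have hnorm : Subgroup.normalizer (Q : Set (Multiplicative (ZMod 2) × P)) =
      Subgroup.prod ⊤ (Subgroup.normalizer ((V : Subgroup P) : Set P)) := by
    ext g
    rw [Subgroup.mem_normalizer_iff, Subgroup.mem_prod, Subgroup.mem_normalizer_iff, hQ]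
    constructor
    · intro h
      refine ⟨Subgroup.mem_top _, fun v => ?_⟩
      have h1 := h (1, v)
      rw [Subgroup.mem_prod, Subgroup.mem_prod] at h1
      constructor
      · intro hv
        exact (h1.mp ⟨Subgroup.mem_top _, hv⟩).2
      · intro hv
        exact (h1.mpr ⟨Subgroup.mem_top _, hv⟩).2
    · intro h x
      rw [Subgroup.mem_prod, Subgroup.mem_prod]
      constructor
      · intro hx
        exact ⟨Subgroup.mem_top _, (h.2 x.2).mp hx.2⟩
      · intro hx
        exact ⟨Subgroup.mem_top _, (h.2 x.2).mpr hx.2⟩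
  rw [hcard, hnorm, Nat.card_congr (Subgroup.prodEquiv _ _).toEquiv, Nat.card_prod,
    hN (V : Subgroup P) hK, Subgroup.card_top]
  have h2 : Nat.card (Multiplicative (ZMod 2)) = 2 := by
    rw [Nat.card_eq_fintype_card]
    rfl
  rw [h2]

end Cfsg.Agent.Lib.Helper48.RC
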