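import Mathlib

/-!
# S2049 piece HeM-LIN (helper85 for helper70)

The action of an element on the table `e`, from its action on the six basis indices and
xor-linearity of the table.
-/

set_option autoImplicit false

open scoped commutatorElement

universe u v

namespace Cfsg.Agent.Lib.Helper85.HeMLIN

set_option maxRecDepth 100000 in
theorem fin64_key : ∀ i : Fin 64, i = 0 ∨ ∃ b ∈ ([1, 2, 4, 8, 16, 32] : List (Fin 64)),
    (i ^^^ b).val < i.val ∧ (i ^^^ b) ^^^ b = i := by
  decide

set_option maxRecDepth 100000 in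
theorem fin64_xor_self : ∀ x : Fin 64, x ^^^ x = 0 := by
  decide

theorem conj_table_of_basis {G : Type u} [Group G] (e : Fin 64 → G)
    (hmul : ∀ i j, e i * e j = e (i ^^^ j)) (n : G) (ν : Fin 64 → Fin 64)
    (hlin : ∀ i j, ν (i ^^^ j) = ν i ^^^ ν j)
    (hb : ∀ i ∈ ([1, 2, 4, 8, 16, 32] : List (Fin 64)), n * e i * n⁻¹ = e (ν i)) :
    ∀ i, n * e i * n⁻¹ = e (ν i) := by
  have he0 : e 0 = 1 := by
    have h := hmul 0 0
    rw [fin64_xor_self] at h
    exact mul_eq_left.1 h
  have hν0 : ν 0 = 0 := by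
    have h := hlin 0 0
    rw [fin64_xor_self, fin64_xor_self] at h
    exact h
  intro i
  induction h : i.val using Nat.strong_induction_on generalizing i with
  | _ k ih =>
    rcases fin64_key i with rfl | ⟨b, hbm, hlt, hxx⟩
    · rw [he0, hν0, he0]; group
    · have h1 := ih _ (h ▸ hlt) (i ^^^ b) rfl
      have h2 := hb b hbm
      have h3 : e i = e (i ^^^ b) * e b := by rw [hmul, hxx]
      have h4 : ν i = ν (i ^^^ b) ^^^ ν b := by rw [← hlin, hxx]
      rw [h3, h4, ← hmul (ν (i ^^^ b)) (ν b), ← h1, ← h2]; group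

end Cfsg.Agent.Lib.Helper85.HeMLIN
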