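import Mathlib
import Cfsg.Agent.Lib.Helper4.Eigen

set_option autoImplicit false

namespace Cfsg.Agent.Lib.Helper85

open Polynomial

/-- Representatives of the units modulo `m`. -/
def expSet (m : ℕ) : Finset ℕ := (Finset.range m).filter (Nat.Coprime m)

theorem mem_expSet {m k : ℕ} : k ∈ expSet m ↔ k < m ∧ Nat.Coprime m k := by
  rw [expSet, Finset.mem_filter, Finset.mem_range]

theorem card_expSet (m : ℕ) : (expSet m).card = Nat.totient m := by
  rw [expSet, Nat.totient_eq_card_coprime]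

theorem card_expSet_pos {m : ℕ} (hm : 0 < m) : 0 < (expSet m).card := by
  rw [card_expSet]; exact Nat.totient_pos.2 hm

/-- The product of the values of an integer polynomial at the primitive `m`-th roots of unity
is a nonzero integer as soon as one value is nonzero. -/
theorem cyc_norm (m : ℕ) (hm : 0 < m) (ζ : ℂ) (hζ : IsPrimitiveRoot ζ m) (F : ℤ[X])
    (hF : aeval ζ F ≠ 0) : 1 ≤ ‖∏ k ∈ expSet m, aeval (ζ ^ k) F‖ := by
  classical
  haveI : NeZero m := ⟨hm.ne'⟩
  haveI : NeZero ((m : ℕ) : ℂ) := ⟨by exact_mod_cast hm.ne'⟩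
  have h1 : ∏ k ∈ expSet m, aeval (ζ ^ k) F = ∏ ω ∈ primitiveRoots m ℂ, aeval ω F := by
    refine Finset.prod_bij (fun i _ => ζ ^ i) ?_ ?_ ?_ ?_
    · intro i hi
      rw [mem_expSet] at hi
      rw [mem_primitiveRoots hm]
      exact hζ.pow_of_coprime i hi.2.symm
    · intro i hi j hj H
      rw [mem_expSet] at hi hj
      exact hζ.pow_inj hi.1 hj.1 H
    · intro ξ hξ
      rw [mem_primitiveRoots hm, hζ.isPrimitiveRoot_iff] at hξ
      obtain ⟨i, hin, hi, H⟩ := hξ
      exact ⟨i, mem_expSet.2 ⟨hin, hi.symm⟩, H⟩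
    · intro i _; rfl
  set φ : ℤ →+* ℂ := Int.castRingHom ℂ with hφ
  have h2 : ∏ ω ∈ primitiveRoots m ℂ, aeval ω F =
      ((cyclotomic m ℂ).roots.map (F.map φ).eval).prod := by
    rw [cyclotomic.roots_eq_primitiveRoots_val, Finset.prod_eq_multiset_prod]
    congr 1
    apply Multiset.map_congr rfl
    intro ω _
    rw [eval_map, aeval_def]
    rfl
  have h3 := resultant_eq_prod_eval (cyclotomic m ℂ) (F.map φ) (F.map φ).natDegree le_rfl
    (IsAlgClosed.splits _)
  rw [(cyclotomic.monic m ℂ).leadingCoeff, one_pow, one_mul] at h3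
  have h4 : resultant (cyclotomic m ℂ) (F.map φ) (cyclotomic m ℂ).natDegree (F.map φ).natDegree =
      φ (resultant (cyclotomic m ℤ) F (cyclotomic m ℂ).natDegree (F.map φ).natDegree) := by
    rw [← resultant_map_map, map_cyclotomic]
  set r : ℤ := resultant (cyclotomic m ℤ) F (cyclotomic m ℂ).natDegree (F.map φ).natDegree with hr
  have h5 : ∏ k ∈ expSet m, aeval (ζ ^ k) F = (r : ℂ) := by
    rw [h1, h2, ← h3, h4]; rfl
  have hr0 : r ≠ 0 := by
    intro h0
    rw [h0, Int.cast_zero, h1, Finset.prod_eq_zero_iff] at h5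
    obtain ⟨ω, hω, hω0⟩ := h5
    rw [mem_primitiveRoots hm] at hω
    have hdvd : cyclotomic m ℤ ∣ F := by
      rw [cyclotomic_eq_minpoly hω hm]
      exact minpoly.isIntegrallyClosed_dvd (hω.isIntegral hm) hω0
    obtain ⟨Q, hQ⟩ := hdvd
    apply hF
    rw [hQ, map_mul, cyclotomic_eq_minpoly hζ hm, minpoly.aeval, zero_mul]
  rw [h5, Complex.norm_intCast]
  exact_mod_cast Int.one_le_abs hr0

/-- Sums of powers of roots of unity: the product over Galois conjugates has norm `≥ 1`. -/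
theorem prod_norm_sum_pow {ι : Type*} [Fintype ι] (m : ℕ) (hm : 0 < m) (μ : ι → ℂ)
    (hμ : ∀ i, μ i ^ m = 1) (h : ∑ i, μ i ≠ 0) : 1 ≤ ∏ k ∈ expSet m, ‖∑ i, μ i ^ k‖ := by
  classical
  haveI : NeZero m := ⟨hm.ne'⟩
  have hζ : IsPrimitiveRoot (Complex.exp (2 * Real.pi * Complex.I / m)) m :=
    Complex.isPrimitiveRoot_exp m hm.ne'
  set ζ : ℂ := Complex.exp (2 * Real.pi * Complex.I / m) with hζdef
  have hex : ∀ i, ∃ e : ℕ, ζ ^ e = μ i := by
    intro i
    obtain ⟨e, -, he⟩ := hζ.eq_pow_of_pow_eq_one (hμ i)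
    exact ⟨e, he⟩
  choose e he using hex
  set F : ℤ[X] := ∑ i, X ^ e i with hFdef
  have hFe : ∀ k : ℕ, aeval (ζ ^ k) F = ∑ i, μ i ^ k := by
    intro k
    rw [hFdef, map_sum]
    refine Finset.sum_congr rfl fun i _ => ?_
    rw [map_pow, aeval_X, ← he i, ← pow_mul, ← pow_mul, mul_comm]
  have h1 : aeval ζ F ≠ 0 := by
    have := hFe 1
    rw [pow_one] at this
    rw [this]
    simpa using h
  have h2 := cyc_norm m hm ζ hζ F h1
  rw [norm_prod] at h2
  rw [Finset.prod_congr rfl (fun k _ => by rw [hFe k])] at h2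
  exact h2

/-- Burnside's norm argument for characters: if `χ(g) ≠ 0` then the product of `‖χ(g ^ k)‖`
over `k` prime to `|G|` is at least `1`. -/
theorem prod_norm_char {G : Type*} [Group G] [Finite G] {V : Type*} [AddCommGroup V]
    [Module ℂ V] [FiniteDimensional ℂ V] (ρ : Representation ℂ G V) (g : G)
    (h : ρ.character g ≠ 0) : 1 ≤ ∏ k ∈ expSet (Nat.card G), ‖ρ.character (g ^ k)‖ := by
  classical
  obtain ⟨ι, hι, hdec, v, μ, hv, hμ, -, -⟩ := Cfsg.Agent.Lib.Helper4.exists_eigenbasis_rep ρ g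
  have hμm : ∀ i, μ i ^ Nat.card G = 1 := by
    intro i
    obtain ⟨c, hc⟩ := orderOf_dvd_natCard g
    rw [hc, pow_mul, hμ i, one_pow]
  have hpow : ∀ (k : ℕ) (i : ι), ρ (g ^ k) (v i) = μ i ^ k • v i := by
    intro k i
    induction k with
    | zero => simp
    | succ k ih =>
      rw [pow_succ, map_mul, Module.End.mul_apply, hv, map_smul, ih, smul_smul, pow_succ, mul_comm]
  have hchar : ∀ k : ℕ, ρ.character (g ^ k) = ∑ i, μ i ^ k := by
    intro k
    exact Cfsg.Agent.Lib.Helper4.trace_eq_sum_of_eigenbasis v (ρ (g ^ k)) (fun i => μ i ^ k)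
      (hpow k)
  have h1 : ∑ i, μ i ≠ 0 := by
    have := hchar 1
    simp only [pow_one] at this
    rw [← this]; exact h
  have h2 := prod_norm_sum_pow (Nat.card G) Nat.card_pos μ hμm h1
  rw [Finset.prod_congr rfl (fun k _ => by rw [hchar k])]
  exact h2

/-- AM-GM in the form: nonnegative reals with product `≥ 1` have sum `≥` their number. -/
theorem card_le_sum_of_one_le_prod {ι : Type*} (s : Finset ι) (b : ι → ℝ) (hb : ∀ i ∈ s, 0 ≤ b i)
    (h : 1 ≤ ∏ i ∈ s, b i) : (s.card : ℝ) ≤ ∑ i ∈ s, b i := by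
  have hpos : ∀ i ∈ s, 0 < b i := by
    intro i hi
    rcases (hb i hi).lt_or_eq with h1 | h1
    · exact h1
    · exfalso
      have : ∏ i ∈ s, b i = 0 := Finset.prod_eq_zero hi h1.symm
      rw [this] at h
      linarith
  have h1 : ∑ i ∈ s, Real.log (b i) ≤ ∑ i ∈ s, (b i - 1) :=
    Finset.sum_le_sum fun i hi => Real.log_le_sub_one_of_pos (hpos i hi)
  have h2 : ∑ i ∈ s, Real.log (b i) = Real.log (∏ i ∈ s, b i) :=
    (Real.log_prod (fun i hi => (hpos i hi).ne')).symm
  have h3 : 0 ≤ Real.log (∏ i ∈ s, b i) := Real.log_nonneg h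
  rw [Finset.sum_sub_distrib, Finset.sum_const, nsmul_eq_mul, mul_one] at h1
  linarith

/-- Averaging over coprime powers. -/
theorem card_le_sum_of_prod {G : Type*} [Group G] [Finite G] (D : Finset G) (a : G → ℝ)
    (ha : ∀ g, 0 ≤ a g) (hD : ∀ g ∈ D, ∀ k ∈ expSet (Nat.card G), g ^ k ∈ D)
    (hprod : ∀ g ∈ D, 1 ≤ ∏ k ∈ expSet (Nat.card G), a (g ^ k)) :
    (D.card : ℝ) ≤ ∑ g ∈ D, a g := by
  classical
  set U := expSet (Nat.card G) with hU
  have hUpos : 0 < U.card := card_expSet_pos Nat.card_pos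
  have hperm : ∀ k ∈ U, ∑ g ∈ D, a (g ^ k) = ∑ g ∈ D, a g := by
    intro k hk
    have hcop : (Nat.card G).Coprime k := (mem_expSet.1 hk).2
    have hinj : Function.Injective (fun g : G => g ^ k) := (powCoprime hcop).injective
    have himg : D.image (fun g : G => g ^ k) = D := by
      apply Finset.eq_of_subset_of_card_le
      · intro x hx
        rw [Finset.mem_image] at hx
        obtain ⟨g, hg, rfl⟩ := hx
        exact hD g hg k hk
      · rw [Finset.card_image_of_injective _ hinj]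
    calc ∑ g ∈ D, a (g ^ k) = ∑ x ∈ D.image (fun g : G => g ^ k), a x :=
          (Finset.sum_image (fun x _ y _ hxy => hinj hxy)).symm
      _ = ∑ g ∈ D, a g := by rw [himg]
  have h1 : ∑ g ∈ D, ∑ k ∈ U, a (g ^ k) = (U.card : ℝ) * ∑ g ∈ D, a g := by
    rw [Finset.sum_comm, Finset.sum_congr rfl hperm, Finset.sum_const, nsmul_eq_mul]
  have h2 : ∑ g ∈ D, (U.card : ℝ) ≤ ∑ g ∈ D, ∑ k ∈ U, a (g ^ k) :=
    Finset.sum_le_sum fun g hg =>
      card_le_sum_of_one_le_prod U (fun k => a (g ^ k)) (fun k _ => ha _) (hprod g hg)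
  rw [Finset.sum_const, nsmul_eq_mul, h1] at h2
  have hUpos' : (0 : ℝ) < U.card := by exact_mod_cast hUpos
  have h3 : (U.card : ℝ) * (D.card : ℝ) ≤ (U.card : ℝ) * ∑ g ∈ D, a g := by
    rw [mul_comm]; exact h2
  exact le_of_mul_le_mul_left h3 hUpos'

end Cfsg.Agent.Lib.Helper85
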