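import Mathlib
import Cfsg.Agent.Lib.Helper18.CTDefs

/-!
# Project CT (helper18, S4699), piece TAU1 (backup copy `CTTAU1b`)

`tau` commutes with `ρ g` for `g` in the normalizer of `P = ⟨x⟩`.
-/

set_option autoImplicit false

namespace Cfsg.Agent.Lib.Helper18.CT

variable {G : Type*} [Group G] {F : Type*} [Field F] {V : Type*} [AddCommGroup V] [Module F V]

theorem tau1b_conj_prod (ρ : Representation F G V) (g : G) (l : List (Module.End F V)) :
    ρ g * l.prod * ρ g⁻¹ = (l.map (fun φ => ρ g * φ * ρ g⁻¹)).prod := by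
  have h1 : ρ g * ρ g⁻¹ = 1 := by rw [← map_mul, mul_inv_cancel, map_one]
  have h2 : ρ g⁻¹ * ρ g = 1 := by rw [← map_mul, inv_mul_cancel, map_one]
  induction l with
  | nil => simp [h1]
  | cons a l ih =>
    rw [List.prod_cons, List.map_cons, List.prod_cons, ← ih]
    calc ρ g * (a * l.prod) * ρ g⁻¹ = ρ g * a * (1 * (l.prod * ρ g⁻¹)) := by
          simp only [mul_assoc, one_mul]
      _ = ρ g * a * (ρ g⁻¹ * ρ g * (l.prod * ρ g⁻¹)) := by rw [h2]
      _ = ρ g * a * ρ g⁻¹ * (ρ g * l.prod * ρ g⁻¹) := by simp only [mul_assoc]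

-- piece TAU1
theorem tau_comm [Finite G] (ρ : Representation F G V) (P : Subgroup G) (x : G)
    (hx : Subgroup.zpowers x = P) (g : G) (hg : g ∈ Subgroup.normalizer (P : Set G)) :
    ρ g * tau ρ P x = tau ρ P x * ρ g := by
  have h1 : ρ g * ρ g⁻¹ = 1 := by rw [← map_mul, mul_inv_cancel, map_one]
  have h2 : ρ g⁻¹ * ρ g = 1 := by rw [← map_mul, inv_mul_cancel, map_one]
  have hmem : ∀ u : G, u ∈ (orbN P x).toList ↔
      ∃ h ∈ Subgroup.normalizer (P : Set G), u = h * x * h⁻¹ := by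
    intro u
    rw [Finset.mem_toList]
    unfold orbN
    rw [Set.Finite.mem_toFinset]
    rfl
  have hxP : x ∈ P := by
    rw [← hx]
    exact Subgroup.mem_zpowers x
  have hP : ∀ u ∈ (orbN P x).toList, u ∈ Subgroup.zpowers x := by
    intro u hu
    obtain ⟨h, hh, rfl⟩ := (hmem u).mp hu
    rw [hx]
    exact (Subgroup.mem_normalizer_iff.mp hh x).mp hxP
  have hcomm : ∀ u ∈ (orbN P x).toList, ∀ v ∈ (orbN P x).toList,
      Commute (ρ u - 1) (ρ v - 1) := by
    intro u hu v hv
    obtain ⟨i, hi⟩ := Subgroup.mem_zpowers_iff.mp (hP u hu)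
    obtain ⟨j, hj⟩ := Subgroup.mem_zpowers_iff.mp (hP v hv)
    have h3 : Commute (ρ u) (ρ v) := by
      show ρ u * ρ v = ρ v * ρ u
      rw [← hi, ← hj, ← map_mul, ← map_mul, ← zpow_add, ← zpow_add, add_comm]
    exact (h3.sub_left (Commute.one_left _)).sub_right (Commute.one_right _)
  have hnd : ((orbN P x).toList).Nodup := Finset.nodup_toList _
  have hinj : Function.Injective (fun u : G => g * u * g⁻¹) := by
    intro a b hab
    exact mul_left_cancel (mul_right_cancel hab)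
  have hperm : (((orbN P x).toList).map (fun u : G => g * u * g⁻¹)).Perm ((orbN P x).toList) := by
    rw [List.perm_ext_iff_of_nodup (hnd.map hinj) hnd]
    intro v
    rw [List.mem_map]
    constructor
    · rintro ⟨u, hu, rfl⟩
      obtain ⟨h, hh, rfl⟩ := (hmem u).mp hu
      exact (hmem _).mpr ⟨g * h, mul_mem hg hh, by group⟩
    · intro hv
      obtain ⟨h, hh, rfl⟩ := (hmem v).mp hv
      exact ⟨g⁻¹ * (h * x * h⁻¹) * g,
        (hmem _).mpr ⟨g⁻¹ * h, mul_mem (inv_mem hg) hh, by group⟩, by group⟩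
  have key : ρ g * tau ρ P x * ρ g⁻¹ = tau ρ P x := by
    unfold tau
    rw [tau1b_conj_prod, List.map_map]
    have e : ((fun φ => ρ g * φ * ρ g⁻¹) ∘ fun u => ρ u - 1) =
        (fun u => ρ u - 1) ∘ (fun u : G => g * u * g⁻¹) := by
      funext u
      simp only [Function.comp_apply, map_mul, mul_sub, sub_mul, mul_one, h1]
    rw [e, ← List.map_map]
    apply List.Perm.prod_eq' (hperm.map _)
    apply List.pairwise_of_forall_mem_list
    intro a ha b hb
    rw [List.mem_map] at ha hb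
    obtain ⟨u, hu, rfl⟩ := ha
    obtain ⟨v, hv, rfl⟩ := hb
    exact hcomm u (hperm.subset hu) v (hperm.subset hv)
  calc ρ g * tau ρ P x = ρ g * tau ρ P x * (ρ g⁻¹ * ρ g) := by rw [h2, mul_one]
    _ = ρ g * tau ρ P x * ρ g⁻¹ * ρ g := by simp only [mul_assoc]
    _ = tau ρ P x * ρ g := by rw [key]

end Cfsg.Agent.Lib.Helper18.CT
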