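import Mathlib
import Cfsg.Agent.Lib.Helper44.PU3Defs

/-!
# PU3 (helper44, S2784 + S2786), piece REC

Two matrices with the same cubic relation, one of them non-derogatory: `Z ^ k = 1 → Y ^ k = 1`.
-/

set_option autoImplicit false

namespace Cfsg.Agent.Lib.Helper44.PU3

open Matrix

/-- coefficients of `M ^ k` in terms of `M * M`, `M`, `1` when `M^3 = τ M^2 - σ M + 1` -/
def pu3rec_coef {F : Type*} [Field F] (τ σ : F) : ℕ → F × F × F
  | 0 => (0, 0, 1)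
  | k + 1 => ((pu3rec_coef τ σ k).1 * τ + (pu3rec_coef τ σ k).2.1,
      (pu3rec_coef τ σ k).2.2 - (pu3rec_coef τ σ k).1 * σ, (pu3rec_coef τ σ k).1)

theorem pu3rec_pow {F : Type*} [Field F] (M : Matrix (Fin 3) (Fin 3) F) (τ σ : F)
    (hM : M * M * M = τ • (M * M) - σ • M + 1) (k : ℕ) :
    M ^ k = (pu3rec_coef τ σ k).1 • (M * M) + (pu3rec_coef τ σ k).2.1 • M +
      (pu3rec_coef τ σ k).2.2 • (1 : Matrix (Fin 3) (Fin 3) F) := by
  induction k with
  | zero =>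
    simp [pu3rec_coef]
  | succ k ih =>
    rw [pow_succ, ih]
    simp only [pu3rec_coef]
    rw [add_mul, add_mul, Matrix.smul_mul, Matrix.smul_mul, Matrix.smul_mul, hM, one_mul]
    module

theorem pu3_rec {F : Type*} [Field F] : RecStmt F := by
  intro Y Z τ σ k hY hZ hnd hZk
  have h1 := pu3rec_pow Z τ σ hZ k
  have h3 := pu3rec_pow Y τ σ hY k
  obtain ⟨p, hp⟩ : ∃ p : F × F × F, p = pu3rec_coef τ σ k := ⟨_, rfl⟩
  rw [← hp] at h1 h3
  rw [hZk] at h1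
  have h2 : (p.2.2 - 1) • (1 : Matrix (Fin 3) (Fin 3) F) + p.2.1 • Z + p.1 • (Z * Z) = 0 := by
    calc (p.2.2 - 1) • (1 : Matrix (Fin 3) (Fin 3) F) + p.2.1 • Z + p.1 • (Z * Z)
        = (p.1 • (Z * Z) + p.2.1 • Z + p.2.2 • (1 : Matrix (Fin 3) (Fin 3) F)) - 1 := by module
      _ = 0 := by rw [← h1, sub_self]
  obtain ⟨hc, hb, ha⟩ := hnd _ _ _ h2
  rw [h3, ha, hb, sub_eq_zero.mp hc, zero_smul, zero_smul, one_smul, zero_add, zero_add]

end Cfsg.Agent.Lib.Helper44.PU3
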