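import Mathlib
import Cfsg.Agent.Lib.Helper48.QADefs

/-!
# Project QA (helper48, S2787), piece QA-NIL (backup copy `QANILb`)

If `N² = M² = 0` and `N M` is nilpotent in a finite ring with `p = 0`, then the units `1 + N` and
`1 + M` generate a `p`-group.  Proof: the flag `U₀ = R`, `U_{k+1} = N U_k + M U_k` of right
ideals reaches `0`, and every element `s` of the group satisfies `(s - 1) U_k ⊆ U_{k+1}`.
-/

set_option autoImplicit false

universe u

namespace Cfsg.Agent.Lib.Helper48.QA

open Matrix Polynomial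

/-- the flag: `nilb_U N M k u` iff `u` lies in the `k`-th power of the right ideal `N R + M R` -/
def nilb_U {R : Type*} [Ring R] (N M : R) : ℕ → R → Prop
  | 0 => fun _ => True
  | (k + 1) => fun u => ∃ u1 u2, nilb_U N M k u1 ∧ nilb_U N M k u2 ∧ u = N * u1 + M * u2

/-- the two alternating words of length `k` (starting with `N`, resp. with `M`) -/
def nilb_a {R : Type*} [Ring R] (N M : R) : ℕ → R × R
  | 0 => (1, 1)
  | (k + 1) => (N * (nilb_a N M k).2, M * (nilb_a N M k).1)

theorem nilb_U_succ {R : Type*} [Ring R] (N M : R) (k : ℕ) (u : R) :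
    nilb_U N M (k + 1) u ↔
      ∃ u1 u2, nilb_U N M k u1 ∧ nilb_U N M k u2 ∧ u = N * u1 + M * u2 := Iff.rfl

theorem nilb_U_base {R : Type*} [Ring R] (N M : R) (u : R) : nilb_U N M 0 u := by
  simp [nilb_U]

theorem nilb_U_zero {R : Type*} [Ring R] (N M : R) (k : ℕ) : nilb_U N M k 0 := by
  induction k with
  | zero => exact nilb_U_base N M 0
  | succ k ih => exact (nilb_U_succ N M k 0).mpr ⟨0, 0, ih, ih, by simp⟩

theorem nilb_U_add {R : Type*} [Ring R] (N M : R) (k : ℕ) (u v : R) (hu : nilb_U N M k u)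
    (hv : nilb_U N M k v) : nilb_U N M k (u + v) := by
  induction k generalizing u v with
  | zero => exact nilb_U_base N M _
  | succ k ih =>
    obtain ⟨u1, u2, h1, h2, e1⟩ := (nilb_U_succ N M k u).mp hu
    obtain ⟨v1, v2, h3, h4, e2⟩ := (nilb_U_succ N M k v).mp hv
    refine (nilb_U_succ N M k _).mpr ⟨u1 + v1, u2 + v2, ih _ _ h1 h3, ih _ _ h2 h4, ?_⟩
    rw [e1, e2, mul_add, mul_add]
    abel

theorem nilb_U_anti {R : Type*} [Ring R] (N M : R) (k : ℕ) (u : R)
    (hu : nilb_U N M (k + 1) u) : nilb_U N M k u := by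
  induction k generalizing u with
  | zero => exact nilb_U_base N M _
  | succ k ih =>
    obtain ⟨u1, u2, h1, h2, e1⟩ := (nilb_U_succ N M (k + 1) u).mp hu
    exact (nilb_U_succ N M k u).mpr ⟨u1, u2, ih _ h1, ih _ h2, e1⟩

theorem nilb_Na {R : Type*} [Ring R] (N M : R) (hN : N * N = 0) (k : ℕ) :
    N * (nilb_a N M k).1 = 0 ∨ N * (nilb_a N M k).1 = N * (nilb_a N M k).2 := by
  cases k with
  | zero =>
    right
    rfl
  | succ k =>
    left
    show N * (N * (nilb_a N M k).2) = 0
    rw [← mul_assoc, hN, zero_mul]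

theorem nilb_Mb {R : Type*} [Ring R] (N M : R) (hM : M * M = 0) (k : ℕ) :
    M * (nilb_a N M k).2 = 0 ∨ M * (nilb_a N M k).2 = M * (nilb_a N M k).1 := by
  cases k with
  | zero =>
    right
    rfl
  | succ k =>
    left
    show M * (M * (nilb_a N M k).1) = 0
    rw [← mul_assoc, hM, zero_mul]

theorem nilb_word {R : Type*} [Ring R] (N M : R) (hN : N * N = 0) (hM : M * M = 0) (k : ℕ)
    (u : R) (hu : nilb_U N M k u) :
    ∃ r s, u = (nilb_a N M k).1 * r + (nilb_a N M k).2 * s := by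
  induction k generalizing u with
  | zero =>
    refine ⟨u, 0, ?_⟩
    show u = 1 * u + 1 * 0
    simp
  | succ k ih =>
    obtain ⟨u1, u2, h1, h2, e0⟩ := (nilb_U_succ N M k u).mp hu
    obtain ⟨r1, s1, e1⟩ := ih u1 h1
    obtain ⟨r2, s2, e2⟩ := ih u2 h2
    have hA : ∃ r, N * u1 = (N * (nilb_a N M k).2) * r := by
      rcases nilb_Na N M hN k with h | h
      · refine ⟨s1, ?_⟩
        rw [e1]
        simp only [mul_add, ← mul_assoc, h, zero_mul, zero_add]
      · refine ⟨r1 + s1, ?_⟩
        rw [e1]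
        simp only [mul_add, ← mul_assoc, h]
    have hB : ∃ s, M * u2 = (M * (nilb_a N M k).1) * s := by
      rcases nilb_Mb N M hM k with h | h
      · refine ⟨r2, ?_⟩
        rw [e2]
        simp only [mul_add, ← mul_assoc, h, zero_mul, add_zero]
      · refine ⟨r2 + s2, ?_⟩
        rw [e2]
        simp only [mul_add, ← mul_assoc, h]
    obtain ⟨r, hr⟩ := hA
    obtain ⟨s, hs⟩ := hB
    refine ⟨r, s, ?_⟩
    rw [e0, hr, hs]
    rfl

theorem nilb_a_even {R : Type*} [Ring R] (N M : R) (j i : ℕ) :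
    (nilb_a N M (2 * j + i)).1 = (N * M) ^ j * (nilb_a N M i).1 := by
  induction j with
  | zero => simp
  | succ j ih =>
    have h1 : 2 * (j + 1) + i = (2 * j + i) + 1 + 1 := by ring
    rw [h1]
    show N * (M * (nilb_a N M (2 * j + i)).1) = _
    rw [ih, pow_succ']
    simp only [mul_assoc]

theorem nilb_vanish {R : Type*} [Ring R] (N M : R) (hN : N * N = 0) (hM : M * M = 0) (k0 : ℕ)
    (h0 : (N * M) ^ k0 = 0) (u : R) (hu : nilb_U N M (2 * k0 + 1) u) : u = 0 := by
  obtain ⟨r, s, e⟩ := nilb_word N M hN hM _ u hu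
  have h1 : (nilb_a N M (2 * k0 + 1)).1 = 0 := by rw [nilb_a_even, h0, zero_mul]
  have h2 : (nilb_a N M (2 * k0 + 1)).2 = 0 := by
    show M * (nilb_a N M (2 * k0)).1 = 0
    have h3 := nilb_a_even N M k0 0
    rw [add_zero] at h3
    rw [h3, h0, zero_mul, mul_zero]
  rw [e, h1, h2, zero_mul, zero_mul, add_zero]

/-- QA-NIL -/
theorem pgroup_of_nilpotent {R : Type*} [Ring R] [Finite R] {p : ℕ} [Fact p.Prime]
    (hpR : (p : R) = 0) (N M : R) (hN : N * N = 0) (hM : M * M = 0) (hnil : IsNilpotent (N * M))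
    (x y : Rˣ) (hx : (x : R) = 1 + N) (hy : (y : R) = 1 + M) :
    IsPGroup p ↥(Subgroup.closure {x, y}) := by
  obtain ⟨k0, h0⟩ := hnil
  have hone : ∀ k u, nilb_U N M k u → nilb_U N M (k + 1) ((((1 : Rˣ) : R) - 1) * u) := by
    intro k u _
    rw [Units.val_one, sub_self, zero_mul]
    exact nilb_U_zero N M (k + 1)
  have hmul : ∀ s t : Rˣ,
      (∀ k u, nilb_U N M k u → nilb_U N M (k + 1) (((s : R) - 1) * u)) →
      (∀ k u, nilb_U N M k u → nilb_U N M (k + 1) (((t : R) - 1) * u)) →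
      ∀ k u, nilb_U N M k u → nilb_U N M (k + 1) ((((s * t : Rˣ) : R) - 1) * u) := by
    intro s t hs ht k u hu
    have e : (((s * t : Rˣ) : R) - 1) * u =
        ((s : R) - 1) * (((t : R) - 1) * u) + (((s : R) - 1) * u + ((t : R) - 1) * u) := by
      rw [Units.val_mul]
      noncomm_ring
    rw [e]
    exact nilb_U_add N M _ _ _ (hs k _ (nilb_U_anti N M k _ (ht k u hu)))
      (nilb_U_add N M _ _ _ (hs k u hu) (ht k u hu))
  have hpow : ∀ (s : Rˣ),
      (∀ k u, nilb_U N M k u → nilb_U N M (k + 1) (((s : R) - 1) * u)) →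
      ∀ m : ℕ, ∀ k u, nilb_U N M k u → nilb_U N M (k + 1) ((((s ^ m : Rˣ) : R) - 1) * u) := by
    intro s hs m
    induction m with
    | zero =>
      rw [pow_zero]
      exact hone
    | succ m ih =>
      rw [pow_succ]
      exact hmul _ _ ih hs
  have hP : ∀ s ∈ Subgroup.closure {x, y},
      ∀ k u, nilb_U N M k u → nilb_U N M (k + 1) (((s : R) - 1) * u) := by
    intro s hs
    refine Subgroup.closure_induction
      (p := fun (s : Rˣ) _ => ∀ k u, nilb_U N M k u → nilb_U N M (k + 1) (((s : R) - 1) * u))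
      ?_ hone ?_ ?_ hs
    · intro z hz k u hu
      rcases hz with hz | hz
      · rw [hz, hx, add_sub_cancel_left]
        exact (nilb_U_succ N M k _).mpr ⟨u, 0, hu, nilb_U_zero N M k, by rw [mul_zero, add_zero]⟩
      · have hz' : z = y := hz
        rw [hz', hy, add_sub_cancel_left]
        exact (nilb_U_succ N M k _).mpr ⟨0, u, nilb_U_zero N M k, hu, by rw [mul_zero, zero_add]⟩
    · intro s t _ _ hs ht
      exact hmul s t hs ht
    · intro s _ hs
      have hfin : s⁻¹ = s ^ (orderOf s - 1) := by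
        have h1 : s ^ (orderOf s - 1) * s = 1 := by
          rw [← pow_succ, Nat.sub_add_cancel (orderOf_pos s), pow_orderOf_eq_one]
        exact (eq_inv_of_mul_eq_one_left h1).symm
      rw [hfin]
      exact hpow s hs _
  intro g
  rcases subsingleton_or_nontrivial R with hsub | hnt
  · refine ⟨0, ?_⟩
    apply Subtype.ext
    apply Units.ext
    exact Subsingleton.elim _ _
  · have hchar : CharP R p := by
      obtain ⟨c, hc⟩ := CharP.exists R
      have hdvd : c ∣ p := (CharP.cast_eq_zero_iff R c p).mp hpR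
      have hc1 : c ≠ 1 := CharP.char_ne_one R c
      rcases (Nat.dvd_prime (Fact.out : p.Prime)).mp hdvd with h | h
      · exact absurd h hc1
      · rw [← h]
        exact hc
    have hU : ∀ n, nilb_U N M n ((((g : Rˣ) : R) - 1) ^ n) := by
      intro n
      induction n with
      | zero => exact nilb_U_base N M _
      | succ n ih =>
        rw [pow_succ']
        exact hP g.1 g.2 n _ ih
    have hnil0 : (((g : Rˣ) : R) - 1) ^ (2 * k0 + 1) = 0 :=
      nilb_vanish N M hN hM k0 h0 _ (hU (2 * k0 + 1))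
    have h1 : (((g : Rˣ) : R) - 1) ^ (p ^ (2 * k0 + 1)) = 0 :=
      pow_eq_zero_of_le (Nat.lt_pow_self (Fact.out : p.Prime).one_lt).le hnil0
    have h2 := sub_pow_char_pow_of_commute p (2 * k0 + 1) (Commute.one_right ((g : Rˣ) : R))
    rw [h1, one_pow] at h2
    refine ⟨2 * k0 + 1, ?_⟩
    apply Subtype.ext
    apply Units.ext
    rw [Subgroup.coe_pow, Units.val_pow_eq_pow_val, Subgroup.coe_one, Units.val_one]
    exact (sub_eq_zero.mp h2.symm)

end Cfsg.Agent.Lib.Helper48.QA
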