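import Mathlib
import Cfsg.Agent.Lib.Helper48.RCBase

/-!
# Project QB (helper48, S2359), piece QB-TORUS (backup copy `QBTORUSb`)

In the abstract rank-one setting `Ok0`, an element commuting with a torus element `H s`,
`s * s ≠ 1`, lies in the torus.
-/

set_option autoImplicit false
set_option linter.unusedSectionVars false

namespace Cfsg.Agent.Lib.Helper48.QB

theorem qbtorusb_aux1 {G : Type*} [Group G] (u w b0 t : G)
    (hg : u * w * b0 * t = t * (u * w * b0)) (htw : t * w = w * t⁻¹) :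
    u * w * b0 = (t * u * t⁻¹) * w * (t⁻¹ * b0 * t⁻¹) := by
  calc u * w * b0 = u * w * b0 * t * t⁻¹ := by group
    _ = t * (u * w * b0) * t⁻¹ := by rw [hg]
    _ = (t * u * t⁻¹) * (t * w) * (b0 * t⁻¹) := by group
    _ = (t * u * t⁻¹) * (w * t⁻¹) * (b0 * t⁻¹) := by rw [htw]
    _ = (t * u * t⁻¹) * w * (t⁻¹ * b0 * t⁻¹) := by group

theorem qbtorusb_aux2 {G : Type*} [Group G] (u1 u w b0 b1 : G)
    (key : u * w * b0 = u1 * w * b1) : (u1⁻¹ * u) * w * (b0 * b1⁻¹) = w := by
  calc (u1⁻¹ * u) * w * (b0 * b1⁻¹) = u1⁻¹ * (u * w * b0) * b1⁻¹ := by group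
    _ = u1⁻¹ * (u1 * w * b1) * b1⁻¹ := by rw [key]
    _ = w := by group

open Cfsg.Agent.Lib.Helper48.RC

variable {F : Type*} [Field F] [Finite F] [CharP F 3] {G : Type*} [Group G] [Finite G]
variable {θ : F →+* F} {T : F → F → F → G} {H : Fˣ → G} {w : G}

-- QB-TORUS
theorem centralizer_H (h : Ok0 θ T H w) (s : Fˣ) (hs : s * s ≠ 1) (g : G)
    (hg : g * H s = H s * g) : ∃ s' : Fˣ, g = H s' := by
  have hH1 : ∀ t : Fˣ, H t ∈ h.Qs → t = 1 := by
    intro t ht
    apply h.H_inj
    apply h.eq_one_of_wuw ht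
    rw [h.wH]
    exact h.H_mem _
  have hcomm : ∀ s' : Fˣ, H s * H s' = H s' * H s := by
    intro s'
    rw [← h.H_mul, ← h.H_mul, mul_comm]
  rcases h.cases g with ⟨a, b, c, s', rfl⟩ | ⟨a, b, c, a', b', c', s', rfl⟩
  · have e : T a b c * (H s * H s') =
        T (s * a) (s * θ s * b) (s ^ 2 * θ s * c) * (H s * H s') := by
      calc T a b c * (H s * H s') = T a b c * H s' * H s := by rw [hcomm s', mul_assoc]
        _ = H s * (T a b c * H s') := hg
        _ = (H s * T a b c) * H s' := by rw [mul_assoc]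
        _ = T (s * a) (s * θ s * b) (s ^ 2 * θ s * c) * H s * H s' := by rw [h.HT]
        _ = T (s * a) (s * θ s * b) (s ^ 2 * θ s * c) * (H s * H s') := by rw [mul_assoc]
    obtain ⟨ea, eb, ec⟩ := h.T_inj _ _ _ _ _ _ (mul_right_cancel e)
    have hx2 : (s : F) * (s : F) ≠ 1 := by
      intro h1
      apply hs
      apply Units.ext
      rw [Units.val_mul, h1, Units.val_one]
    have hx1 : (s : F) ≠ 1 := by
      intro h1
      apply hx2
      rw [h1, mul_one]
    have ha0 : a = 0 := by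
      have h1 : ((s : F) - 1) * a = 0 := by linear_combination -ea
      rcases mul_eq_zero.mp h1 with h2 | h2
      · exact absurd (sub_eq_zero.mp h2) hx1
      · exact h2
    have hb0 : b = 0 := by
      by_contra hb
      have h1 : (s : F) * θ s = 1 := by
        have h2 : ((s : F) * θ s - 1) * b = 0 := by linear_combination -eb
        rcases mul_eq_zero.mp h2 with h3 | h3
        · exact sub_eq_zero.mp h3
        · exact absurd h3 hb
      have h2 : θ (s : F) * (s : F) ^ 3 = 1 := by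
        have h3 := congrArg θ h1
        rw [map_mul, h.θθ, map_one] at h3
        exact h3
      apply hx2
      calc (s : F) * (s : F) = ((s : F) * θ s) * ((s : F) * (s : F)) := by rw [h1, one_mul]
        _ = θ (s : F) * (s : F) ^ 3 := by ring
        _ = 1 := h2
    have hc0 : c = 0 := by
      by_contra hc
      have h1 : (s : F) ^ 2 * θ s = 1 := by
        have h2 : ((s : F) ^ 2 * θ s - 1) * c = 0 := by linear_combination -ec
        rcases mul_eq_zero.mp h2 with h3 | h3
        · exact sub_eq_zero.mp h3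
        · exact absurd h3 hc
      have h2 : θ (s : F) ^ 2 * (s : F) ^ 3 = 1 := by
        have h3 := congrArg θ h1
        rw [map_mul, map_pow, h.θθ, map_one] at h3
        exact h3
      apply hx1
      calc (s : F) = (s : F) * (θ (s : F) ^ 2 * (s : F) ^ 3) := by rw [h2, mul_one]
        _ = ((s : F) ^ 2 * θ s) ^ 2 := by ring
        _ = 1 := by rw [h1, one_pow]
    refine ⟨s', ?_⟩
    rw [ha0, hb0, hc0, h.T_zero, one_mul]
  · exfalso
    have hu : T a b c ∈ h.Qs := h.T_mem a b c
    have hb0 : T a' b' c' * H s' ∈ h.Bs := h.TH_mem a' b' c' s'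
    have hti : (H s)⁻¹ ∈ h.Bs := h.Bs.inv_mem (h.H_mem s)
    have hu1 : H s * T a b c * (H s)⁻¹ ∈ h.Qs := h.conj_mem_Qs (h.H_mem s) hu
    have hb1 : (H s)⁻¹ * (T a' b' c' * H s') * (H s)⁻¹ ∈ h.Bs :=
      h.Bs.mul_mem (h.Bs.mul_mem hti hb0) hti
    have htw : H s * w = w * (H s)⁻¹ := by
      calc H s * w = (w * w) * H s * w := by rw [h.w_sq, one_mul]
        _ = w * (w * H s * w) := by group
        _ = w * (H s)⁻¹ := by rw [h.wH, h.H_inv]
    have key := qbtorusb_aux1 (T a b c) w (T a' b' c' * H s') (H s) hg htw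
    have e0 := qbtorusb_aux2 _ _ _ _ _ key
    obtain ⟨v1, v2, v3, hv⟩ := h.Qs.mul_mem (h.Qs.inv_mem hu1) hu
    obtain ⟨v1', v2', v3', σ, hb⟩ := h.Bs.mul_mem hb0 (h.Bs.inv_mem hb1)
    rw [hv, hb] at e0
    obtain ⟨hv1, hv2, hv3⟩ := h.uniq _ _ _ _ _ _ _ e0
    rw [hv1, hv2, hv3, h.T_zero] at hv
    have hu_eq : H s * T a b c * (H s)⁻¹ = T a b c := inv_mul_eq_one.mp hv
    rw [hu_eq] at key
    have hb_eq : T a' b' c' * H s' = (H s)⁻¹ * (T a' b' c' * H s') * (H s)⁻¹ :=
      mul_left_cancel key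
    have hb' : H s * (T a' b' c' * H s') * H s = T a' b' c' * H s' := by
      calc H s * (T a' b' c' * H s') * H s
          = H s * ((H s)⁻¹ * (T a' b' c' * H s') * (H s)⁻¹) * H s := by rw [← hb_eq]
        _ = T a' b' c' * H s' := by group
    have h5 : H s * T a' b' c' * H s = T a' b' c' := by
      have h6 : H s * T a' b' c' * H s * H s' = T a' b' c' * H s' := by
        calc H s * T a' b' c' * H s * H s' = H s * T a' b' c' * (H s * H s') := by group
          _ = H s * T a' b' c' * (H s' * H s) := by rw [hcomm s']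
          _ = H s * (T a' b' c' * H s') * H s := by group
          _ = T a' b' c' * H s' := hb'
      exact mul_right_cancel h6
    have e : H s * H s = (H s * T a' b' c' * (H s)⁻¹)⁻¹ * (H s * T a' b' c' * H s) := by group
    rw [h5] at e
    have hQ : H (s * s) ∈ h.Qs := by
      rw [h.H_mul, e]
      exact h.Qs.mul_mem (h.Qs.inv_mem (h.conj_mem_Qs (h.H_mem s) (h.T_mem a' b' c')))
        (h.T_mem a' b' c')
    exact hs (hH1 _ hQ)

end Cfsg.Agent.Lib.Helper48.QB
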