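import Mathlib
import Cfsg.Agent.Lib.Helper50.SU4Q3Def
import Cfsg.Agent.Lib.Helper71.Asch5

/-! Project SU4 (helper50, S5784), sub-piece Q3CONJ of Q3MON: transport of the symplectic-type
package by conjugation with a unitary matrix. -/

set_option autoImplicit false

namespace Cfsg.Agent.Lib.Helper85.SU4Q3CONJ

open Matrix Cfsg.Geo Cfsg.Agent.Lib.Helper71.Asch Cfsg.Agent.Lib.Helper50.SU4Q3Def

variable {F : Type*} [Field F] [Fintype F] {q : ℕ}

theorem su4q3conj_mem_map (g : GL (Fin 4) F) (L : Subgroup (GL (Fin 4) F)) (x : GL (Fin 4) F) :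
    x ∈ L.map (MulAut.conj g).toMonoidHom ↔ g⁻¹ * x * g ∈ L := by
  constructor
  · rintro ⟨y, hy, rfl⟩
    have e : g⁻¹ * ((MulAut.conj g).toMonoidHom y) * g = y := by
      show g⁻¹ * (g * y * g⁻¹) * g = y
      group
    rw [e]
    exact hy
  · intro h
    refine ⟨g⁻¹ * x * g, h, ?_⟩
    show g * (g⁻¹ * x * g) * g⁻¹ = x
    group

theorem su4q3conj_scalar_conj (a s : GL (Fin 4) F) (hs : s ∈ scalars (Fin 4) F) :
    a * s * a⁻¹ = s := by
  obtain ⟨c, hc⟩ := (mem_scalars_iff s).mp hs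
  apply Units.ext
  rw [Units.val_mul, Units.val_mul, hc, Matrix.mul_smul, Matrix.smul_mul, Matrix.mul_one,
    Units.mul_inv]

/-- Q3CONJ: transport of the whole package by conjugation with a unitary matrix. -/
theorem Q3CONJ (g : GL (Fin 4) F) (hg : g ∈ Cfsg.GU 4 F q) (D : Fin 4 → Submodule F (Fin 4 → F))
    (hDg : ∀ j, D j = Submodule.span F {g.1 *ᵥ (Pi.single j 1 : Fin 4 → F)})
    (K R : Subgroup (GL (Fin 4) F)) (hS : SymT K R) (hR : R ≤ Cfsg.GU 4 F q)
    (hc : Nat.card ↥(R ⊓ scalars (Fin 4) F) ≠ 2)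
    (hnr : ¬ ∃ F₁ : Subfield F, F₁ ≠ ⊤ ∧ RealisableOver F₁ (matrixSet R))
    (hN : decompositionStabilizer
        (fun j : Fin 4 => Submodule.span F {(Pi.single j 1 : Fin 4 → F)}) ⊓
      (Cfsg.GU 4 F q ⊓ specialLinear (Fin 4) F) ≤ subgroupNormalizer R) :
    ∃ K' R' : Subgroup (GL (Fin 4) F), SymT K' R' ∧ R' ≤ Cfsg.GU 4 F q ∧
      Nat.card ↥(R' ⊓ scalars (Fin 4) F) ≠ 2 ∧
      (¬ ∃ F₁ : Subfield F, F₁ ≠ ⊤ ∧ RealisableOver F₁ (matrixSet R')) ∧
      decompositionStabilizer D ⊓ (Cfsg.GU 4 F q ⊓ specialLinear (Fin 4) F) ≤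
        subgroupNormalizer R' := by
  have hmem := su4q3conj_mem_map g
  have hsc : ∀ a s : GL (Fin 4) F, s ∈ scalars (Fin 4) F → a * s * a⁻¹ = s :=
    fun a s hs => su4q3conj_scalar_conj a s hs
  have hgi : g.1 * (g⁻¹ : GL (Fin 4) F).1 = 1 := Units.mul_inv g
  have hig : (g⁻¹ : GL (Fin 4) F).1 * g.1 = 1 := Units.inv_mul g
  have hin : ∀ y ∈ R, ((g * y * g⁻¹ : GL (Fin 4) F)).1 ∈
      matrixSet (R.map (MulAut.conj g).toMonoidHom) :=
    fun y hy => ⟨g * y * g⁻¹, Subgroup.mem_map_of_mem _ hy, rfl⟩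
  refine ⟨K.map (MulAut.conj g).toMonoidHom, R.map (MulAut.conj g).toMonoidHom,
    ⟨⟨?_, ?_, ?_, ?_⟩, ⟨?_, ?_⟩, ?_⟩, ?_, ?_, ?_, ?_⟩
  -- le
  · exact Subgroup.map_mono hS.min.le
  -- nrm
  · intro h hh x hx
    rw [hmem] at hh hx ⊢
    have h1 := hS.min.nrm _ hh _ hx
    have e : g⁻¹ * (h * x * h⁻¹) * g = (g⁻¹ * h * g) * (g⁻¹ * x * g) * (g⁻¹ * h * g)⁻¹ := by
      group
    rw [e]
    exact h1
  -- ns
  · intro hle
    apply hS.min.ns
    intro y hy
    have h1 : g * y * g⁻¹ ∈ scalars (Fin 4) F := hle (Subgroup.mem_map_of_mem _ hy)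
    have h2 := hsc g⁻¹ _ h1
    have h3 : y = g * y * g⁻¹ := by
      rw [← h2]
      group
    rw [h3]
    exact h1
  -- min
  · intro L' hL' hnL'
    have hA : L'.comap (MulAut.conj g).toMonoidHom ≤ R := by
      intro y hy
      have h1 : g * y * g⁻¹ ∈ L' := hy
      have h2 := (hmem R _).mp (hL' h1)
      have e : g⁻¹ * (g * y * g⁻¹) * g = y := by group
      rw [e] at h2
      exact h2
    have hB : Nrm K (L'.comap (MulAut.conj g).toMonoidHom) := by
      intro h0 hh0 y hy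
      have h1 : g * y * g⁻¹ ∈ L' := hy
      have h2 := hnL' (g * h0 * g⁻¹) (Subgroup.mem_map_of_mem _ hh0) _ h1
      show g * (h0 * y * h0⁻¹) * g⁻¹ ∈ L'
      have e : g * (h0 * y * h0⁻¹) * g⁻¹ = (g * h0 * g⁻¹) * (g * y * g⁻¹) * (g * h0 * g⁻¹)⁻¹ := by
        group
      rw [e]
      exact h2
    rcases hS.min.min _ hA hB with h0 | h0
    · left
      intro x hx
      have h1 : g⁻¹ * x * g ∈ L'.comap (MulAut.conj g).toMonoidHom := by
        show g * (g⁻¹ * x * g) * g⁻¹ ∈ L'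
        have e : g * (g⁻¹ * x * g) * g⁻¹ = x := by group
        rw [e]
        exact hx
      have h2 := h0 h1
      have h3 := hsc g _ h2
      have h4 : x = g⁻¹ * x * g := by
        rw [← h3]
        group
      rw [h4]
      exact h2
    · right
      apply le_antisymm hL'
      intro x hx
      have h1 := (hmem R x).mp hx
      rw [← h0] at h1
      have h2 : g * (g⁻¹ * x * g) * g⁻¹ ∈ L' := h1
      have e : g * (g⁻¹ * x * g) * g⁻¹ = x := by group
      rw [e] at h2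
      exact h2
  -- irreducible
  · intro W hW
    have hinv : ∀ s ∈ matrixSet R,
        (W.comap (Matrix.toLin' g.1)).map (Matrix.toLin' s) ≤ W.comap (Matrix.toLin' g.1) := by
      rintro s ⟨y, hy, hys⟩
      have hys' : (y : Matrix (Fin 4) (Fin 4) F) = s := hys
      subst hys'
      rintro _ ⟨w, hw, rfl⟩
      have hw' : Matrix.toLin' g.1 w ∈ W := hw
      show Matrix.toLin' g.1 (Matrix.toLin' y.1 w) ∈ W
      have h2 := hW _ (hin y hy) ⟨_, hw', rfl⟩
      have e : Matrix.toLin' ((g * y * g⁻¹ : GL (Fin 4) F)).1 (Matrix.toLin' g.1 w) =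
          Matrix.toLin' g.1 (Matrix.toLin' y.1 w) := by
        simp only [Matrix.toLin'_apply, Units.val_mul, Matrix.mulVec_mulVec]
        rw [Matrix.mul_assoc (g.1 * y.1), hig, Matrix.mul_one]
      rw [← e]
      exact h2
    rcases hS.abs.1 _ hinv with h0 | h0
    · left
      rw [eq_bot_iff]
      intro w hw
      have h1 : (g⁻¹ : GL (Fin 4) F).1 *ᵥ w ∈ W.comap (Matrix.toLin' g.1) := by
        rw [Submodule.mem_comap, Matrix.toLin'_apply, Matrix.mulVec_mulVec, hgi,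
          Matrix.one_mulVec]
        exact hw
      rw [h0, Submodule.mem_bot] at h1
      have h2 : w = g.1 *ᵥ ((g⁻¹ : GL (Fin 4) F).1 *ᵥ w) := by
        rw [Matrix.mulVec_mulVec, hgi, Matrix.one_mulVec]
      have h3 : w = 0 := by
        rw [h2, h1, Matrix.mulVec_zero]
      rw [h3]
      exact Submodule.zero_mem _
    · right
      rw [eq_top_iff]
      intro w _
      have h1 : (g⁻¹ : GL (Fin 4) F).1 *ᵥ w ∈ W.comap (Matrix.toLin' g.1) := by
        rw [h0]
        trivial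
      rw [Submodule.mem_comap, Matrix.toLin'_apply, Matrix.mulVec_mulVec, hgi,
        Matrix.one_mulVec] at h1
      exact h1
  -- commutant
  · intro M hM
    have hcm : ∀ s ∈ matrixSet R, ((g⁻¹ : GL (Fin 4) F).1 * M * g.1) * s =
        s * ((g⁻¹ : GL (Fin 4) F).1 * M * g.1) := by
      rintro s ⟨y, hy, hys⟩
      have hys' : (y : Matrix (Fin 4) (Fin 4) F) = s := hys
      subst hys'
      have h1 := hM _ (hin y hy)
      rw [Units.val_mul, Units.val_mul] at h1
      calc (g⁻¹ : GL (Fin 4) F).1 * M * g.1 * y.1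
          = (g⁻¹ : GL (Fin 4) F).1 * (M * (g.1 * y.1 * (g⁻¹ : GL (Fin 4) F).1)) * g.1 := by
            simp only [Matrix.mul_assoc, hig, Matrix.mul_one]
        _ = (g⁻¹ : GL (Fin 4) F).1 * ((g.1 * y.1 * (g⁻¹ : GL (Fin 4) F).1) * M) * g.1 := by
            rw [h1]
        _ = y.1 * ((g⁻¹ : GL (Fin 4) F).1 * M * g.1) := by
            simp only [← Matrix.mul_assoc, hig, Matrix.one_mul]
    obtain ⟨c, hc0⟩ := hS.abs.2 _ hcm
    refine ⟨c, ?_⟩
    have e : M = g.1 * ((g⁻¹ : GL (Fin 4) F).1 * M * g.1) * (g⁻¹ : GL (Fin 4) F).1 := by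
      calc M = (g.1 * (g⁻¹ : GL (Fin 4) F).1) * M * (g.1 * (g⁻¹ : GL (Fin 4) F).1) := by
            rw [hgi, Matrix.one_mul, Matrix.mul_one]
        _ = _ := by simp only [Matrix.mul_assoc]
    rw [e, hc0, Matrix.mul_smul, Matrix.smul_mul, Matrix.mul_one, hgi]
  -- comm
  · rw [← Subgroup.map_commutator]
    intro x hx
    rw [hmem] at hx
    have h1 := hS.comm hx
    have h2 := hsc g _ h1
    have h3 : x = g⁻¹ * x * g := by
      rw [← h2]
      group
    rw [h3]
    exact h1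
  -- R' ≤ GU
  · intro x hx
    obtain ⟨y, hy, rfl⟩ := hx
    show g * y * g⁻¹ ∈ Cfsg.GU 4 F q
    exact mul_mem (mul_mem hg (hR hy)) (inv_mem hg)
  -- card
  · have e : R.map (MulAut.conj g).toMonoidHom ⊓ scalars (Fin 4) F = R ⊓ scalars (Fin 4) F := by
      ext x
      simp only [Subgroup.mem_inf]
      constructor
      · rintro ⟨h1, h2⟩
        rw [hmem] at h1
        have h3 := hsc g⁻¹ x h2
        rw [inv_inv] at h3
        rw [h3] at h1
        exact ⟨h1, h2⟩
      · rintro ⟨h1, h2⟩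
        refine ⟨?_, h2⟩
        rw [hmem]
        have h3 := hsc g⁻¹ x h2
        rw [inv_inv] at h3
        rw [h3]
        exact h1
    rw [e]
    exact hc
  -- not realisable
  · rintro ⟨F₁, hF₁, B, hB⟩
    apply hnr
    refine ⟨F₁, hF₁, B * g, ?_⟩
    rintro s ⟨y, hy, hys⟩ i j
    have hys' : (y : Matrix (Fin 4) (Fin 4) F) = s := hys
    subst hys'
    have h1 := hB _ (hin y hy) i j
    have e : ((B * g : GL (Fin 4) F)).1 * y.1 * (((B * g)⁻¹ : GL (Fin 4) F)).1 =
        B.1 * ((g * y * g⁻¹ : GL (Fin 4) F)).1 * (B⁻¹ : GL (Fin 4) F).1 := by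
      rw [_root_.mul_inv_rev]
      simp only [Units.val_mul, Matrix.mul_assoc]
    rw [e]
    exact h1
  -- stabiliser
  · intro x hx
    obtain ⟨hxD, hxU, hxS⟩ := hx
    have hU0 : g⁻¹ * x * g ∈ Cfsg.GU 4 F q := mul_mem (mul_mem (inv_mem hg) hxU) hg
    have hS0 : g⁻¹ * x * g ∈ specialLinear (Fin 4) F := by
      have h1 := (MonoidHom.normal_ker
        (Matrix.GeneralLinearGroup.det : GL (Fin 4) F →* Fˣ)).conj_mem x hxS g⁻¹
      rw [inv_inv] at h1
      exact h1
    have hD1 : g⁻¹ * x * g ∈ decompositionStabilizer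
        (fun j : Fin 4 => Submodule.span F {(Pi.single j 1 : Fin 4 → F)}) := by
      · obtain ⟨σ, hσ⟩ := hxD
        refine ⟨σ, fun i => ?_⟩
        have hD0 : ∀ j, D j =
            (Submodule.span F {(Pi.single j 1 : Fin 4 → F)}).map (Matrix.toLin' g.1) := by
          intro j
          rw [hDg j, Submodule.map_span, Set.image_singleton, Matrix.toLin'_apply]
        have h1 := hσ i
        rw [hD0 i, hD0 (σ i)] at h1
        have h2 := congrArg (Submodule.map (Matrix.toLin' (g⁻¹ : GL (Fin 4) F).1)) h1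
        rw [← Submodule.map_comp, ← Submodule.map_comp, ← Submodule.map_comp] at h2
        have e1 : ((Matrix.toLin' (g⁻¹ : GL (Fin 4) F).1).comp (Matrix.toLin' x.1)).comp
            (Matrix.toLin' g.1) = Matrix.toLin' ((g⁻¹ * x * g : GL (Fin 4) F)).1 := by
          rw [← Matrix.toLin'_mul, ← Matrix.toLin'_mul, Units.val_mul, Units.val_mul]
        have e2 : (Matrix.toLin' (g⁻¹ : GL (Fin 4) F).1).comp (Matrix.toLin' g.1) =
            LinearMap.id := by
          rw [← Matrix.toLin'_mul, hig, Matrix.toLin'_one]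
        rw [e1, e2, Submodule.map_id] at h2
        exact h2
    have hx0 : g⁻¹ * x * g ∈ subgroupNormalizer R := hN ⟨hD1, hU0, hS0⟩
    show x ∈ Subgroup.normalizer
      ((R.map (MulAut.conj g).toMonoidHom : Subgroup (GL (Fin 4) F)) : Set (GL (Fin 4) F))
    rw [← Subgroup.map_equiv_normalizer_eq, hmem]
    exact hx0

end Cfsg.Agent.Lib.Helper85.SU4Q3CONJ
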