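import Mathlib
import Cfsg.Prelude.Def_SporadicB
import Cfsg.Prelude.Def_Solvable
import Cfsg.Prelude.Def_Local
import Cfsg.Prelude.Def_Classical
import Cfsg.Agent.Lib.Helper94.TT68Defs
import Cfsg.Agent.Lib.Helper85.TT68M7a
import Cfsg.Agent.Lib.Helper60.TT68M4
import Cfsg.Agent.Lib.Helper60.TT68M5
import Cfsg.Agent.Lib.Helper60.TT68M6
import Cfsg.Agent.Lib.Helper66.Cores
import Cfsg.Agent.S1265

/-!
# S5559 piece M7 (helper85): the predicate `GB` on `H ⧸ O₂(H)` and its three properties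
-/

set_option autoImplicit false

namespace Cfsg.Agent.Lib.Helper94.TT68

open Cfsg

section modpart

variable {H : Type*} [Group H] [Finite H] {E : Set H}

/-- M7 -/
theorem mod_main (hE : IsThreeTranspositionClass E) (hE2 : ∃ a ∈ E, ∃ b ∈ E, a ≠ b)
    (hF : generalizedFittingSubgroup H = pCore 2 H) {d : H} (hd : d ∈ E) :
    ∃ GB : H ⧸ pCore 2 H → Prop,
      (∀ x : H ⧸ pCore 2 H,
        QuotientGroup.mk' (pCore 2 H) d * x * QuotientGroup.mk' (pCore 2 H) d = x⁻¹ →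
        x ^ 3 = 1 → x ≠ 1 → GB x) ∧
      (∀ x y : H ⧸ pCore 2 H,
        QuotientGroup.mk' (pCore 2 H) d * x * QuotientGroup.mk' (pCore 2 H) d = x⁻¹ →
        x ^ 3 = 1 →
        QuotientGroup.mk' (pCore 2 H) d * y * QuotientGroup.mk' (pCore 2 H) d = y⁻¹ →
        y ^ 3 = 1 → x * y * x⁻¹ * y⁻¹ ≠ 1 →
        (∀ g : H ⧸ pCore 2 H, (x * y * x⁻¹ * y⁻¹) * g = g * (x * y * x⁻¹ * y⁻¹)) →
        GB (x * y * x⁻¹ * y⁻¹)) ∧
      (∀ s t : H ⧸ pCore 2 H, s ^ 3 = 1 → t ^ 3 = 1 → s * t = t * s → GB s → GB t →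
        GB (s * t) → GB (s * t ^ 2) → False) := by
  have : Fact (Nat.Prime 2) := ⟨Nat.prime_two⟩
  have hQ : IsPGroup 2 (pCore 2 H) := Cfsg.Agent.Lib.Helper66.isPGroup_pCore 2
  have hCQ : Subgroup.centralizer ((pCore 2 H : Subgroup H) : Set H) ≤ pCore 2 H := by
    have h := Cfsg.Agent.S1265.result (G := H)
    rw [hF] at h
    exact h
  exact Cfsg.Agent.Lib.Helper85.TT68M7.mod_main_of hE hE2 hF hd
    (fun e he h3 hne => good_mul hE hQ hd he h3 hne)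
    (fun x y t₃ t₄ hx3 hy3 hc gx gy g3 g4 h3 h4 => good_comm hQ hx3 hy3 hc gx gy g3 g4 h3 h4)
    (fun a b t₁ t₂ ha hb hab3 hab1 h1 h2 h12 g1 g2 g3 g4 =>
      false_of_good hE hQ hCQ hd ha hb hab3 hab1 h1 h2 h12 g1 g2 g3 g4)

end modpart

end Cfsg.Agent.Lib.Helper94.TT68
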